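import Cfsg.Agent.KFacts.MulM23.Split
import Cfsg.Agent.KFacts.MulM22.Row
set_option linter.all false

-- merged: Cfsg.Agent.KFacts.MulM22.Fpf
section

/-!
# The obstruction is one-dimensional (helper281)

`Fpf.ne_of_fpf`: in a perfect double cover of `X` (with `E : D₈` of odd index, `E` elementary abelian, `r = s t`, `f` of
odd order, fixed point free on `E`, commuting with `r f r⁻¹`, `|E : [E, D₈]| = 2`, `e₁ = [a₁, f]` generating `E` modulo
`[E, D₈]`, `s e₁ s⁻¹ = [a₂, f]`), `S [y₁, F] S⁻¹ ≠ [y₂, F]` for all lifts `F`, `S`, `y₁`, `y₂`.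

`Fpf.cyclic_of_fpf`: so a perfect central extension of `X` with kernel a 2-group has a cyclic kernel.
-/

set_option autoImplicit false

namespace Cfsg.Agent.KFacts.MulM22.Fpf

open Subgroup
open Cfsg.Agent.KFacts.MulCov
open Cfsg.Agent.KFacts.MulM23.Split

universe u v

/-- The configuration in `X`. -/
structure Conf {X : Type v} [Group X] (E D : Subgroup X) (f s t a₁ a₂ : X) : Prop where
  fE : ∀ a ∈ E, f * a * f⁻¹ ∈ E
  fE' : ∀ a ∈ E, f⁻¹ * a * f ∈ E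
  fp : ∀ a ∈ E, a * f = f * a → a = 1
  surj : ∀ a ∈ E, ∃ b ∈ E, b * f * b⁻¹ * f⁻¹ = a
  hD : D ≤ closure {s, t}
  h4 : (s * t) ^ 4 = 1
  sE : ∀ a ∈ E, s * a * s⁻¹ ∈ E
  tE : ∀ a ∈ E, t * a * t⁻¹ ∈ E
  odd : f ^ 3 = 1
  comm : f * (s * t * f * (s * t)⁻¹) = s * t * f * (s * t)⁻¹ * f
  rfE : ∀ a ∈ E, (s * t * f * (s * t)⁻¹) * a * (s * t * f * (s * t)⁻¹)⁻¹ ∈ E
  m1 : a₁ ∈ E
  m2 : a₂ ∈ E
  e2 : s * (a₁ * f * a₁⁻¹ * f⁻¹) * s⁻¹ = a₂ * f * a₂⁻¹ * f⁻¹
  gen : ∀ a ∈ E, ∃ b ∈ E, ∃ d ∈ E, a = b * (s * b * s⁻¹) * (d * (s * t * d * (s * t)⁻¹)) ∨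
    a = (a₁ * f * a₁⁻¹ * f⁻¹) * (b * (s * b * s⁻¹) * (d * (s * t * d * (s * t)⁻¹)))
  ED : ∀ i : Fin 4, i ≠ 0 → (s * t) ^ (i : ℕ) ∉ E
  ED' : ∀ i : Fin 4, (s * t) ^ (i : ℕ) * s ∉ E
  ind : ¬ 2 ∣ (E ⊔ D).index

variable {L : Type u} {X : Type v} [Group L] [Group X] {π : L →* X} {c : L}

section

variable {E D : Subgroup X} {f s t a₁ a₂ : X}

/-- the second half of `false_of_fpf`: `S`, `T` normalise the complement -/
theorem false_of_norm [Finite L] (h : Cov π c) (hc : Conf E D f s t a₁ a₂) {F S T : L} (hF : π F = f) (hS : π S = s)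
    (hT : π T = t) (hSS : S * S = 1) (hTT : T * T = 1) (h2 : (S * T * (S * T)) * (S * T * (S * T)) = 1)
    (hcom : ∀ a b : L, π a ∈ E → π b ∈ E → a * b = b * a) (hk : ∀ y : L, π y ∈ E → π (kap F y) ∈ E)
    (nS : ∀ x ∈ Eh E F hcom hk, S * x * S⁻¹ ∈ Eh E F hcom hk)
    (nT : ∀ x ∈ Eh E F hcom hk, T * x * T⁻¹ ∈ Eh E F hcom hk) : False := by
  set Ê := Eh E F hcom hk with hÊ
  have hn : ∀ b ∈ closure {S, T}, ∀ a ∈ Ê, b * a * b⁻¹ ∈ Ê := by
    have hle : closure {S, T} ≤ normalizer (Ê : Set L) := by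
      rw [closure_le]
      have key : ∀ U : L, U * U = 1 → (∀ x ∈ Ê, U * x * U⁻¹ ∈ Ê) → U ∈ normalizer (Ê : Set L) := by
        intro U hU hx
        rw [mem_normalizer_iff]
        intro x
        refine ⟨hx x, fun h1 => ?_⟩
        have h3 := hx _ h1
        have e : U * (U * x * U⁻¹) * U⁻¹ = (U * U) * x * (U * U)⁻¹ := by group
        rw [e, hU, one_mul, inv_one, mul_one] at h3
        exact h3
      rintro x (rfl | hx)
      · exact key _ hSS nS
      · obtain rfl : x = T := hx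
        exact key _ hTT nT
    intro b hb a ha
    exact (mem_normalizer_iff.1 (hle hb) a).1 ha
  have hR4 : (S * T) ^ 4 = 1 := by
    rw [← h2]; simp only [pow_succ, pow_zero, one_mul, mul_assoc]
  have hcÊ : c ∉ Ê := by
    rintro ⟨y, hy, hcy⟩
    have h3 : π (kap F y) = 1 := by rw [← hcy, h.map_c]
    have h5 : π y = 1 := by
      apply hc.fp _ hy
      unfold kap at h3
      rw [map_mul, map_mul, map_mul, map_inv, map_inv, hF] at h3
      rw [mul_inv_eq_one] at h3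
      rw [mul_inv_eq_iff_eq_mul] at h3
      exact h3
    have h6 : kap F y = 1 := by
      rcases (h.ker y).1 h5 with rfl | rfl
      · unfold kap; group
      · unfold kap
        rw [h.cen F]; group
    rw [h6] at hcy
    exact h.ne hcy
  refine h.false_of_subgroup hc.ind (P₁ := prod Ê (closure {S, T}) hn) ?_ ?_
  · rintro ⟨a, ha, d, hd, hcd⟩
    obtain ⟨i, hi⟩ := mem_closure_pair hSS hTT hd
    have hmod : (S * T) ^ i = (S * T) ^ ((i % 4).toNat) := by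
      have h3 : ((i % 4).toNat : ℤ) = i % 4 := Int.toNat_of_nonneg (Int.emod_nonneg _ (by norm_num))
      rw [← zpow_natCast, h3]
      conv_lhs => rw [← Int.mul_ediv_add_emod i 4]
      rw [zpow_add, zpow_mul]
      have : (S * T) ^ (4 : ℤ) = 1 := by exact_mod_cast hR4
      rw [this, one_zpow, one_mul]
    have hlt : (i % 4).toNat < 4 := by
      have := Int.emod_lt_of_pos i (show (0 : ℤ) < 4 by norm_num)
      have h3 := Int.emod_nonneg i (show (4 : ℤ) ≠ 0 by norm_num)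
      omega
    have hdE : π d ∈ E := by
      have h3 : d = a⁻¹ * c := by rw [hcd]; group
      obtain ⟨y, hy, rfl⟩ := ha
      rw [h3, map_mul, h.map_c, mul_one, map_inv]
      exact inv_mem (hk y hy)
    have hST : ∀ n : ℕ, π ((S * T) ^ n) = (s * t) ^ n := fun n => by rw [map_pow, map_mul, hS, hT]
    rcases hi with rfl | rfl
    · rw [hmod] at hdE hcd
      rw [hST] at hdE
      by_cases h0 : (⟨(i % 4).toNat, hlt⟩ : Fin 4) = 0
      · have h00 : (i % 4).toNat = 0 := congrArg Fin.val h0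
        rw [h00, pow_zero, mul_one] at hcd
        rw [hcd] at hcÊ
        exact hcÊ ha
      · exact hc.ED ⟨_, hlt⟩ h0 hdE
    · rw [hmod] at hdE
      rw [map_mul, hST, hS] at hdE
      exact hc.ED' ⟨_, hlt⟩ hdE
  · rw [sup_le_iff]
    constructor
    · intro a ha
      obtain ⟨b, hb, hba⟩ := hc.surj a ha
      obtain ⟨y, rfl⟩ := h.surj b
      refine ⟨kap F y, ⟨kap F y, ⟨y, hb, rfl⟩, 1, one_mem _, by rw [mul_one]⟩, ?_⟩
      unfold kap
      rw [map_mul, map_mul, map_mul, map_inv, map_inv, hF, hba]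
    · have h3 : closure {s, t} ≤ (closure {S, T}).map π := by
        rw [closure_le]
        rintro x (rfl | hx)
        · exact ⟨S, subset_closure (Or.inl rfl), hS⟩
        · obtain rfl : x = t := hx
          exact ⟨T, subset_closure (Or.inr rfl), hT⟩
      refine (hc.hD.trans h3).trans (map_mono ?_)
      intro x hx
      exact ⟨1, one_mem _, x, hx, by rw [one_mul]⟩

/-- **The obstruction is one-dimensional.** -/
theorem ne_of_fpf [Finite L] (h : Cov π c) (hc : Conf E D f s t a₁ a₂) (good : ∀ a ∈ E, Good π a)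
    (hs : Good π s) (ht : Good π t) (h2 : Good π (s * t * (s * t))) {F S y₁ y₂ : L} (hF : π F = f) (hS : π S = s)
    (hy1 : π y₁ = a₁) (hy2 : π y₂ = a₂) : S * kap F y₁ * S⁻¹ ≠ kap F y₂ := by
  intro heq
  obtain ⟨T, hT⟩ := h.surj t
  -- the preimage of `E` is elementary abelian
  have sqE : ∀ a : L, π a ∈ E → a * a = 1 := fun a ha => good _ ha a rfl
  have hcom : ∀ a b : L, π a ∈ E → π b ∈ E → a * b = b * a := by
    intro a b ha hb
    have h3 := sqE (a * b) (by rw [map_mul]; exact mul_mem ha hb)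
    calc a * b = (a * b)⁻¹ := (inv_eq_of_mul_eq_one_left h3).symm
      _ = b * a := by
        rw [mul_inv_rev, inv_eq_of_mul_eq_one_left (sqE a ha), inv_eq_of_mul_eq_one_left (sqE b hb)]
  have kE : ∀ G : L, (∀ a ∈ E, π G * a * (π G)⁻¹ ∈ E) → ∀ y : L, π y ∈ E → π (kap G y) ∈ E := by
    intro G hG y hy
    have e : kap G y = y * (G * y⁻¹ * G⁻¹) := by unfold kap; group
    rw [e, map_mul, map_mul, map_mul, map_inv, map_inv]
    exact mul_mem hy (hG _ (inv_mem hy))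
  have hk : ∀ y : L, π y ∈ E → π (kap F y) ∈ E := kE F (by rw [hF]; exact hc.fE)
  have hSS : S * S = 1 := hs S hS
  have hTT : T * T = 1 := ht T hT
  have hSi : S⁻¹ = S := inv_eq_of_mul_eq_one_left hSS
  set R := S * T with hR
  have hRr : π R = s * t := by rw [hR, map_mul, hS, hT]
  -- `F' = R F R⁻¹` commutes with `F`
  obtain ⟨F', hF'⟩ : ∃ F', F' = R * F * R⁻¹ := ⟨_, rfl⟩
  have hFr : π F' = s * t * f * (s * t)⁻¹ := by rw [hF', map_mul, map_mul, map_inv, hRr, hF]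
  have hFF : F * F' = F' * F := by
    refine h.toExt.comm_of_odd (n := 3) (by decide) ?_ ?_
    · rw [hF]; exact hc.odd
    · rw [hF, hFr]; exact hc.comm
  -- `[y, F']` is in the image of `[·, F]`
  have key : ∀ y : L, π y ∈ E → kap F' y ∈ Eh E F hcom hk := by
    intro y hy
    obtain ⟨b, hb, hba⟩ := hc.surj _ hy
    obtain ⟨w, rfl⟩ := h.surj b
    have h3 : π (kap F w) = π y := by
      unfold kap
      rw [map_mul, map_mul, map_mul, map_inv, map_inv, hF, hba]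
    have h4 : kap F' y = kap F' (kap F w) := by
      rcases h.eq_or h3 with h5 | h5
      · rw [h5]
      · rw [h5]
        unfold kap
        rw [mul_inv_rev y c, h.inv_c]
        calc y * F' * y⁻¹ * F'⁻¹ = y * F' * (c * c) * y⁻¹ * F'⁻¹ := by rw [h.sq]; group
          _ = y * (F' * c) * (c * y⁻¹) * F'⁻¹ := by group
          _ = y * (c * F') * (c * y⁻¹) * F'⁻¹ := by rw [h.cen F']
          _ = _ := by group
    have hkF' : ∀ y : L, π y ∈ E → π (kap F' y) ∈ E := kE F' (by rw [hFr]; exact hc.rfE)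
    refine ⟨kap F' w, hkF' w hb, ?_⟩
    rw [h4]
    -- `[[w, F], F'] = [[w, F'], F]`
    have m1 : π (F * w⁻¹ * F⁻¹) ∈ E := by
      rw [map_mul, map_mul, map_inv, map_inv, hF]
      exact hc.fE _ (inv_mem hb)
    have m2 : π (F' * w⁻¹ * F'⁻¹) ∈ E := by
      rw [map_mul, map_mul, map_inv, map_inv, hFr]
      exact hc.rfE _ (inv_mem hb)
    have m3 : π (F' * (F * w * F⁻¹) * F'⁻¹) ∈ E := by
      have := hc.rfE _ (hc.fE _ hb)
      rw [← hFr, ← hF, ← map_inv, ← map_inv, ← map_mul, ← map_mul, ← map_mul, ← map_mul] at this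
      exact this
    have e1 : kap F' (kap F w) = w * (F * w⁻¹ * F⁻¹) * (F' * (F * w * F⁻¹) * F'⁻¹) * (F' * w⁻¹ * F'⁻¹) := by
      unfold kap; group
    have e2 : kap F (kap F' w) = w * (F' * w⁻¹ * F'⁻¹) * (F * (F' * w * F'⁻¹) * F⁻¹) * (F * w⁻¹ * F⁻¹) := by
      unfold kap; group
    have e3 : F * (F' * w * F'⁻¹) * F⁻¹ = F' * (F * w * F⁻¹) * F'⁻¹ := by
      calc F * (F' * w * F'⁻¹) * F⁻¹ = (F * F') * w * (F * F')⁻¹ := by group
        _ = (F' * F) * w * (F' * F)⁻¹ := by rw [hFF]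
        _ = _ := by group
    rw [e1, e2, e3]
    calc w * (F * w⁻¹ * F⁻¹) * (F' * (F * w * F⁻¹) * F'⁻¹) * (F' * w⁻¹ * F'⁻¹)
        = w * ((F * w⁻¹ * F⁻¹) * (F' * (F * w * F⁻¹) * F'⁻¹)) * (F' * w⁻¹ * F'⁻¹) := by group
      _ = w * ((F' * (F * w * F⁻¹) * F'⁻¹) * (F * w⁻¹ * F⁻¹)) * (F' * w⁻¹ * F'⁻¹) := by rw [hcom _ _ m1 m3]
      _ = w * (F' * (F * w * F⁻¹) * F'⁻¹) * ((F * w⁻¹ * F⁻¹) * (F' * w⁻¹ * F'⁻¹)) := by group
      _ = w * (F' * (F * w * F⁻¹) * F'⁻¹) * ((F' * w⁻¹ * F'⁻¹) * (F * w⁻¹ * F⁻¹)) := by rw [hcom _ _ m1 m2]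
      _ = w * ((F' * (F * w * F⁻¹) * F'⁻¹) * (F' * w⁻¹ * F'⁻¹)) * (F * w⁻¹ * F⁻¹) := by group
      _ = w * ((F' * w⁻¹ * F'⁻¹) * (F' * (F * w * F⁻¹) * F'⁻¹)) * (F * w⁻¹ * F⁻¹) := by rw [hcom _ _ m3 m2]
      _ = _ := by group
  set Ê := Eh E F hcom hk with hÊ
  have hÊE : ∀ x ∈ Ê, π x ∈ E := by
    rintro _ ⟨y, hy, rfl⟩
    exact hk y hy
  have hcÊ : c ∉ Ê := by
    rintro ⟨y, hy, hcy⟩
    have h3 : π (kap F y) = 1 := by rw [← hcy, h.map_c]
    have h5 : π y = 1 := by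
      apply hc.fp _ hy
      unfold kap at h3
      rw [map_mul, map_mul, map_mul, map_inv, map_inv, hF] at h3
      rw [mul_inv_eq_one] at h3
      rw [mul_inv_eq_iff_eq_mul] at h3
      exact h3
    have h6 : kap F y = 1 := by
      rcases (h.ker y).1 h5 with rfl | rfl
      · unfold kap; group
      · unfold kap
        rw [h.cen F]; group
    rw [h6] at hcy
    exact h.ne hcy
  have rE : ∀ a ∈ E, s * t * a * (s * t)⁻¹ ∈ E := by
    intro a ha
    have := hc.sE _ (hc.tE a ha)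
    have e : s * (t * a * t⁻¹) * s⁻¹ = s * t * a * (s * t)⁻¹ := by group
    rwa [e] at this
  have nR : ∀ x ∈ Ê, R * x * R⁻¹ ∈ Ê := by
    rintro _ ⟨y, hy, rfl⟩
    have e : R * kap F y * R⁻¹ = kap F' (R * y * R⁻¹) := by rw [hF']; unfold kap; group
    rw [e]
    apply key
    rw [map_mul, map_mul, map_inv, hRr]
    exact rE _ hy
  -- `a` such that the lift in `Ê` is in `S Ê S⁻¹`
  set E0 : Subgroup L := Ê ⊓ Ê.comap (MulAut.conj S).toMonoidHom with hE0
  have memE0 : ∀ x : L, x ∈ E0 ↔ x ∈ Ê ∧ S * x * S⁻¹ ∈ Ê := fun x => Iff.rfl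
  -- every element of `E` has a lift in `Ê`
  have lift : ∀ a ∈ E, ∃ x ∈ Ê, π x = a := by
    intro a ha
    obtain ⟨b, hb, hba⟩ := hc.surj a ha
    obtain ⟨y, rfl⟩ := h.surj b
    refine ⟨kap F y, ⟨y, hb, rfl⟩, ?_⟩
    unfold kap
    rw [map_mul, map_mul, map_mul, map_inv, map_inv, hF, hba]
  have uniq : ∀ x ∈ Ê, ∀ y ∈ Ê, π x = π y → x = y := by
    intro x hx y hy hxy
    rcases h.eq_or hxy with h3 | h3
    · exact h3
    · exfalso
      have h4 := mul_mem (inv_mem hy) hx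
      rw [h3, inv_mul_cancel_left] at h4
      exact hcÊ h4
  -- `x S x S⁻¹`
  have hSc : ∀ x ∈ Ê, ∃ u ∈ Ê, S * x * S⁻¹ = u ∨ S * x * S⁻¹ = u * c := by
    intro x hx
    obtain ⟨u, hu, hux⟩ := lift (π (S * x * S⁻¹)) (by
      rw [map_mul, map_mul, map_inv, hS]; exact hc.sE _ (hÊE x hx))
    exact ⟨u, hu, h.eq_or hux.symm⟩
  have gS : ∀ b ∈ E, ∃ x ∈ E0, π x = b * (s * b * s⁻¹) := by
    intro b hb
    obtain ⟨x, hx, rfl⟩ := lift b hb
    obtain ⟨u, hu, hux⟩ := hSc x hx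
    have hu1 : π u = s * π x * s⁻¹ := by
      rcases hux with h3 | h3
      · rw [← h3, map_mul, map_mul, map_inv, hS]
      · have : π (u * c) = π u := by rw [map_mul, h.map_c, mul_one]
        rw [← this, ← h3, map_mul, map_mul, map_inv, hS]
    refine ⟨x * u, (memE0 _).2 ⟨mul_mem hx hu, ?_⟩, by rw [map_mul, hu1]⟩
    have h4 : S * (x * u) * S⁻¹ = (S * x * S⁻¹) * (S * u * S⁻¹) := by group
    have h5 : S * (S * x * S⁻¹) * S⁻¹ = x := by
      rw [hSi]
      calc S * (S * x * S) * S = (S * S) * x * (S * S) := by group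
        _ = x := by rw [hSS, one_mul, mul_one]
    rw [h4]
    rcases hux with h3 | h3
    · rw [h3] at h5 ⊢
      rw [h5]
      exact mul_mem hu hx
    · rw [h3] at h5 ⊢
      have h6 : S * u * S⁻¹ = x * c := by
        rw [← h5]
        calc S * u * S⁻¹ = S * (u * (c * c)) * S⁻¹ := by rw [h.sq, mul_one]
          _ = S * (u * c) * (c * S⁻¹) := by group
          _ = S * (u * c) * (S⁻¹ * c) := by rw [h.cen]
          _ = _ := by group
      rw [h6]
      have h7 : u * c * (x * c) = u * x := by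
        calc u * c * (x * c) = u * (c * x) * c := by group
          _ = u * (x * c) * c := by rw [h.cen]
          _ = u * x * (c * c) := by group
          _ = _ := by rw [h.sq, mul_one]
      rw [h7]
      exact mul_mem hu hx
  have gR : ∀ b ∈ E, ∃ x ∈ E0, π x = b * (s * t * b * (s * t)⁻¹) := by
    intro b hb
    obtain ⟨x, hx, rfl⟩ := lift b hb
    refine ⟨x * (R * x * R⁻¹), (memE0 _).2 ⟨mul_mem hx (nR x hx), ?_⟩, by
      rw [map_mul, map_mul, map_mul, map_inv, hRr]⟩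
    -- `S R = R⁻¹ S`
    have hSR : S * R * S⁻¹ = R⁻¹ := by
      rw [hSi, hR, mul_inv_rev, hSi, inv_eq_of_mul_eq_one_left hTT]
      calc S * (S * T) * S = (S * S) * T * S := by group
        _ = T * S := by rw [hSS, one_mul]
    have e : S * (x * (R * x * R⁻¹)) * S⁻¹ = (S * x * S⁻¹) * (R⁻¹ * (S * x * S⁻¹) * R) := by
      calc S * (x * (R * x * R⁻¹)) * S⁻¹
          = (S * x * S⁻¹) * ((S * R * S⁻¹) * (S * x * S⁻¹) * (S * R * S⁻¹)⁻¹) := by group
        _ = _ := by rw [hSR, inv_inv]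
    have nR' : ∀ x ∈ Ê, R⁻¹ * x * R ∈ Ê := by
      have h8 : R * R * (R * R) = 1 := h2 (R * R) (by rw [map_mul, hRr])
      have h9 : R⁻¹ = R * R * R := by
        rw [inv_eq_iff_mul_eq_one]
        rw [← h8]; group
      intro x hx
      have h10 : R⁻¹ * x * R = R * (R * (R * x * R⁻¹) * R⁻¹) * R⁻¹ := by
        calc R⁻¹ * x * R = R⁻¹ * x * (R⁻¹)⁻¹ := by rw [inv_inv]
          _ = (R * R * R) * x * (R * R * R)⁻¹ := by rw [h9]
          _ = _ := by group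
      rw [h10]
      exact nR _ (nR _ (nR _ hx))
    rw [e]
    obtain ⟨u, hu, hux | hux⟩ := hSc x hx
    · rw [hux]
      exact mul_mem hu (nR' u hu)
    · rw [hux]
      have h7 : u * c * (R⁻¹ * (u * c) * R) = u * (R⁻¹ * u * R) := by
        calc u * c * (R⁻¹ * (u * c) * R) = u * (c * (R⁻¹ * u)) * c * R := by group
          _ = u * ((R⁻¹ * u) * c) * c * R := by rw [h.cen]
          _ = u * (R⁻¹ * u) * (c * c) * R := by group
          _ = _ := by rw [h.sq]; group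
      rw [h7]
      exact mul_mem hu (nR' u hu)
  have nS : ∀ x ∈ Ê, S * x * S⁻¹ ∈ Ê := by
    intro x hx
    obtain ⟨b, hb, d, hd, hab⟩ := hc.gen _ (hÊE x hx)
    obtain ⟨u, hu, hub⟩ := gS b hb
    obtain ⟨w, hw, hwd⟩ := gR d hd
    have h3 : x ∈ E0 := by
      have ha1 : π y₁ ∈ E := by rw [hy1]; exact hc.m1
      have ha2 : π y₂ ∈ E := by rw [hy2]; exact hc.m2
      have hk1 : π (kap F y₁) = a₁ * f * a₁⁻¹ * f⁻¹ := by
        unfold kap
        rw [map_mul, map_mul, map_mul, map_inv, map_inv, hF, hy1]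
      rcases hab with h3 | h3
      · have h4 : x = u * w := by
          apply uniq x hx _ (mul_mem ((memE0 u).1 hu).1 ((memE0 w).1 hw).1)
          rw [h3, map_mul, hub, hwd]
        rw [h4]
        exact mul_mem hu hw
      · have m0 : kap F y₁ ∈ E0 := (memE0 _).2 ⟨⟨y₁, ha1, rfl⟩, by rw [heq]; exact ⟨y₂, ha2, rfl⟩⟩
        have h4 : x = kap F y₁ * (u * w) := by
          apply uniq x hx _ (mul_mem ((memE0 _).1 m0).1 (mul_mem ((memE0 u).1 hu).1 ((memE0 w).1 hw).1))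
          rw [h3, map_mul, map_mul, hub, hwd, hk1]
        rw [h4]
        exact mul_mem m0 (mul_mem hu hw)
    exact ((memE0 x).1 h3).2
  have nT : ∀ x ∈ Ê, T * x * T⁻¹ ∈ Ê := by
    intro x hx
    have e : T * x * T⁻¹ = S * (R * x * R⁻¹) * S⁻¹ := by
      have h3 : T = S * R := by rw [hR, ← mul_assoc, hSS, one_mul]
      rw [h3]; group
    rw [e]
    exact nS _ (nR x hx)
  refine false_of_norm h hc hF hS hT hSS hTT ?_ hcom hk nS nT
  exact h2 (S * T * (S * T)) (by rw [map_mul, map_mul, hS, hT])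

end

/-! ### The kernel is cyclic -/

/-- a finite abelian 2-group in which no subgroup of index 2 contains `w` is generated by `w` -/
theorem eq_zpowers {Z : Type*} [CommGroup Z] [Finite Z] (hp : IsPGroup 2 Z) {w : Z}
    (h : ∀ Y : Subgroup Z, Y.index = 2 → w ∉ Y) : zpowers w = ⊤ := by
  by_contra hcon
  have : Fact (Nat.Prime 2) := ⟨Nat.prime_two⟩
  have hq : IsPGroup 2 (Z ⧸ zpowers w) := hp.to_quotient _
  obtain ⟨n, hn⟩ := IsPGroup.iff_card.1 hq
  have h1 : 2 ∣ Nat.card (Z ⧸ zpowers w) := by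
    rcases n with _ | n
    · exfalso
      apply hcon
      rw [← index_eq_one, index_eq_card, hn, pow_zero]
    · rw [hn]; exact dvd_pow_self 2 (Nat.succ_ne_zero n)
  obtain ⟨Y, hY⟩ := exists_index_two h1
  refine h (Y.comap (QuotientGroup.mk' _)) ?_ ?_
  · rw [index_comap_of_surjective _ (QuotientGroup.mk'_surjective _), hY]
  · show QuotientGroup.mk' (zpowers w) w ∈ Y
    rw [QuotientGroup.mk'_apply, (QuotientGroup.eq_one_iff w).2 (mem_zpowers w)]
    exact one_mem _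

/-- the double cover `K / Y` for a central extension with kernel `Z`, `|Z : Y| = 2` -/
theorem exists_cov {K : Type u} [Group K] {X : Type v} [Group X] {π : K →* X} (hs : Function.Surjective π)
    (hp : commutator K = ⊤) (hcen : ∀ z ∈ π.ker, ∀ x, z * x = x * z) {Y : Subgroup K} (hY : Y ≤ π.ker)
    (hYi : (Y.subgroupOf π.ker).index = 2) :
    ∃ (_ : Y.Normal) (π' : K ⧸ Y →* X) (c : K ⧸ Y), (∀ x, π' (QuotientGroup.mk' Y x) = π x) ∧ Cov π' c := by
  have hn : Y.Normal := ⟨fun n hn g => by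
    rw [← hcen n (hY hn) g, mul_inv_cancel_right]; exact hn⟩
  obtain ⟨z, hz⟩ : ∃ z, z ∈ π.ker ∧ z ∉ Y := by
    by_contra hcon
    push Not at hcon
    have : Y.subgroupOf π.ker = ⊤ := subgroupOf_eq_top.2 hcon
    rw [this, index_top] at hYi
    norm_num at hYi
  have hmul : ∀ a ∈ π.ker, ∀ b ∈ π.ker, (a * b ∈ Y ↔ (a ∈ Y ↔ b ∈ Y)) := by
    intro a ha b hb
    have := mul_mem_iff_of_index_two hYi (a := ⟨a, ha⟩) (b := ⟨b, hb⟩)
    simpa [mem_subgroupOf] using this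
  refine ⟨hn, QuotientGroup.lift _ π hY, QuotientGroup.mk' Y z, fun x => rfl, ⟨?_, ?_, ?_, ?_, ?_⟩, ?_⟩
  · intro h
    rw [QuotientGroup.mk'_apply, QuotientGroup.eq_one_iff] at h
    exact hz.2 h
  · rw [← map_mul, QuotientGroup.mk'_apply, QuotientGroup.eq_one_iff]
    exact (hmul z hz.1 z hz.1).2 Iff.rfl
  · intro x
    obtain ⟨x, rfl⟩ := QuotientGroup.mk'_surjective _ x
    rw [← map_mul, ← map_mul, hcen z hz.1]
  · intro x
    obtain ⟨y, rfl⟩ := hs x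
    exact ⟨QuotientGroup.mk' _ y, rfl⟩
  · intro x
    obtain ⟨x, rfl⟩ := QuotientGroup.mk'_surjective _ x
    show π x = 1 ↔ _
    rw [QuotientGroup.mk'_apply, QuotientGroup.mk'_apply, QuotientGroup.eq_one_iff, QuotientGroup.eq]
    constructor
    · intro hx
      by_cases h1 : x ∈ Y
      · exact Or.inl h1
      · right
        rw [hmul _ (inv_mem hx) z hz.1, inv_mem_iff]
        exact iff_of_false h1 hz.2
    · rintro (hx | hx)
      · exact hY hx
      · have h1 := hY hx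
        have h2 : x = z * (x⁻¹ * z)⁻¹ := by group
        have h3 : x ∈ π.ker := by
          rw [h2]
          exact mul_mem hz.1 (inv_mem h1)
        exact h3
  · rw [commutator_def, ← Subgroup.map_top_of_surjective _ (QuotientGroup.mk'_surjective _),
      ← Subgroup.map_commutator, ← commutator_def, hp]

/-- **A perfect central extension of `X` whose kernel is a 2-group has a cyclic kernel.** -/
theorem cyclic_of_fpf {K : Type u} [Group K] [Finite K] {X : Type v} [Group X] {π : K →* X}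
    (hs : Function.Surjective π) (hp : commutator K = ⊤) (hcen : ∀ z ∈ π.ker, ∀ x, z * x = x * z)
    (h2 : IsPGroup 2 π.ker) {E D : Subgroup X} {f s t a₁ a₂ : X} (hc : Conf E D f s t a₁ a₂)
    (good : ∀ (L : Type u) [Group L] [Finite L] (π' : L →* X) (c : L), Cov π' c → (∀ a ∈ E, Good π' a) ∧
      Good π' s ∧ Good π' t ∧ Good π' (s * t * (s * t))) : IsCyclic π.ker := by
  obtain ⟨F, hF⟩ := hs f
  obtain ⟨S, hS⟩ := hs s
  obtain ⟨y₁, hy1⟩ := hs a₁
  obtain ⟨y₂, hy2⟩ := hs a₂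
  have hw : S * kap F y₁ * S⁻¹ * (kap F y₂)⁻¹ ∈ π.ker := by
    rw [MonoidHom.mem_ker]
    unfold kap
    simp only [map_mul, map_inv, hS, hF, hy1, hy2]
    have := hc.e2
    rw [this]
    group
  let w : π.ker := ⟨_, hw⟩
  let _ : CommGroup π.ker := { (inferInstance : Group π.ker) with
    mul_comm := fun a b => Subtype.ext (hcen a a.2 b) }
  have hgen : zpowers w = ⊤ := by
    apply eq_zpowers h2
    intro Y hY hwY
    have hYle : Y.map π.ker.subtype ≤ π.ker := map_subtype_le Y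
    have hYi : ((Y.map π.ker.subtype).subgroupOf π.ker).index = 2 := by
      have : (Y.map π.ker.subtype).subgroupOf π.ker = Y := by
        unfold subgroupOf
        exact comap_map_eq_self_of_injective (subtype_injective _) Y
      rw [this, hY]
    obtain ⟨hn, π', c, hπ', hcov⟩ := exists_cov hs hp hcen hYle hYi
    obtain ⟨g1, g2, g3, g4⟩ := good _ π' c hcov
    refine ne_of_fpf hcov hc g1 g2 g3 g4 (F := QuotientGroup.mk' _ F) (S := QuotientGroup.mk' _ S)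
      (y₁ := QuotientGroup.mk' _ y₁) (y₂ := QuotientGroup.mk' _ y₂) (by rw [hπ', hF]) (by rw [hπ', hS])
      (by rw [hπ', hy1]) (by rw [hπ', hy2]) ?_
    have h3 : QuotientGroup.mk' (Y.map π.ker.subtype) (S * kap F y₁ * S⁻¹ * (kap F y₂)⁻¹) = 1 := by
      rw [QuotientGroup.mk'_apply, QuotientGroup.eq_one_iff]
      exact ⟨w, hwY, rfl⟩
    unfold kap at h3 ⊢
    rw [map_mul, map_inv, mul_inv_eq_one] at h3
    simp only [map_mul, map_inv] at h3 ⊢
    exact h3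
  refine ⟨w, fun x => ?_⟩
  have hx : x ∈ zpowers w := by rw [hgen]; exact mem_top x
  obtain ⟨k, hk⟩ := mem_zpowers_iff.1 hx
  exact ⟨k, hk⟩

end Cfsg.Agent.KFacts.MulM22.Fpf

end

-- merged: Cfsg.Agent.KFacts.MulM22.Cyc
section

/-!
# The 2-part of the Schur multiplier of `M22` is cyclic (helper281)

`cyclic_ker`: a perfect central extension of `M22` whose kernel is a finite 2-group has a cyclic kernel.
`card_center_dvd`: the kernel has order dividing 4, without assumption on the kernel.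
-/

set_option autoImplicit false
set_option Elab.async false

namespace Cfsg.Agent.KFacts.MulM22.Cyc

open Subgroup Cfsg Cfsg.Spor Cfsg.Agent.SporadicA.GolayBase Cfsg.Agent.SporadicA.GolayPerm
open Cfsg.Agent.SporadicStructure.M24El
open Cfsg.Agent.KFacts.MulCov Cfsg.Agent.KFacts.MulM22.Eight Cfsg.Agent.KFacts.MulM22.Main
open Cfsg.Agent.KFacts.MulM22.Fpf

universe u

/-- an element of order three, fixed point free on `LE` -/
def pf : ℕ := 971379642845652274390644527914454048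

/-- its inverse -/
def pfi : ℕ := 976326094703589562898919214398116896

/-- its conjugate by `s t` -/
def pg : ℕ := 984073772193844595984843817280320544

/-- the inverse of `pg` -/
def pgi : ℕ := 984562890813525105469318503534858272

/-- `[p1, pf]` generates `LE` modulo `[LE, LD]` -/
def p1 : ℕ := 984561664131678682933695704404628576

/-- `[p2, pf]` is the conjugate by `s` -/
def p2 : ℕ := 984266143084858087375752989286682240

theorem okH : (ok2 pf && ok2 pfi && ok2 pg && ok2 pgi && Nat.beq (pcomp pf pfi) idP && Nat.beq (pcomp pg pgi) idP &&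
    (Main.LE.any fun Q => Nat.beq Q p1) && (Main.LE.any fun Q => Nat.beq Q p2) &&
    Nat.beq (pcomp (pcomp ps pt') pf) (pcomp pg (pcomp ps pt')) && Nat.beq (pcomp pf pg) (pcomp pg pf) &&
    Nat.beq (pcomp pf (pcomp pf pf)) idP) = true := by
  decide +kernel

/-- `[P, pf]` for an involution `P` -/
def kp (P : ℕ) : ℕ := pcomp (pcomp (pcomp P pf) P) pfi

theorem chkH : (Nat.beq (pcomp ps (kp p1)) (pcomp (kp p2) ps) && (Main.LE.all fun P =>
    (Main.LE.any fun Q => Nat.beq (pcomp pf P) (pcomp Q pf)) && (Main.LE.any fun Q => Nat.beq (pcomp P pf) (pcomp pf Q)) &&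
    (Main.LE.any fun Q => Nat.beq (pcomp pg P) (pcomp Q pg)) &&
    (Nat.beq P idP || df (pcomp P pf) (pcomp pf P)) && (Main.LE.any fun Q => Nat.beq (kp Q) P))) = true := by
  decide +kernel

/-- `P Q P⁻¹` for `P = s` -/
def cs (Q : ℕ) : ℕ := pcomp (pcomp ps Q) ps

/-- `r Q r⁻¹` for `r = s t` -/
def cr (Q : ℕ) : ℕ := pcomp (pcomp (pcomp ps pt') Q) (pcomp pt' ps)

theorem chkI : (Main.LE.all fun P => Main.LE.any fun B => Main.LE.any fun C =>
    Nat.beq P (pcomp (pcomp B (cs B)) (pcomp C (cr C))) ||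
    Nat.beq P (pcomp (kp p1) (pcomp (pcomp B (cs B)) (pcomp C (cr C))))) = true := by decide +kernel

theorem chkT : (Nat.beq (pcomp ps ps) idP && Nat.beq (pcomp pt' pt') idP) = true := by decide +kernel

/-- an element of `LE` outside `⟨pa, py⟩` -/
def pd : ℕ := 984365217902686453248235801272398976

theorem chkJ : (ok2 pd && (LC.any fun Q => Nat.beq Q.1 py) && (LC.any fun Q => Nat.beq Q.1 pd) &&
    (LC.any fun Q => Nat.beq Q.1 (pcomp pa py)) && (LC.any fun Q => Nat.beq Q.1 (pcomp pa pd)) &&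
    (LC.any fun Q => Nat.beq Q.1 (pcomp py pd)) &&
    (LC.any fun Q => Nat.beq Q.1 (pcomp pa (pcomp py pd)))) = true := by decide +kernel

theorem okHs : ok2 pf = true ∧ ok2 pfi = true ∧ ok2 pg = true ∧ ok2 pgi = true ∧ pcomp pf pfi = idP ∧
    pcomp pg pgi = idP ∧ p1 ∈ Main.LE ∧ p2 ∈ Main.LE ∧ pcomp (pcomp ps pt') pf = pcomp pg (pcomp ps pt') ∧
    pcomp pf pg = pcomp pg pf ∧ pcomp pf (pcomp pf pf) = idP := by
  have hk := okH
  simp only [Bool.and_eq_true, List.any_eq_true] at hk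
  obtain ⟨⟨⟨⟨⟨⟨⟨⟨⟨⟨h1, h2⟩, h3⟩, h4⟩, h5⟩, h6⟩, ⟨Q, hQ, h7⟩⟩, ⟨R, hR, h8⟩⟩, h9⟩, h10⟩, h11⟩ := hk
  rw [Nat.eq_of_beq_eq_true h7] at hQ
  rw [Nat.eq_of_beq_eq_true h8] at hR
  exact ⟨h1, h2, h3, h4, Nat.eq_of_beq_eq_true h5, Nat.eq_of_beq_eq_true h6, hQ, hR, Nat.eq_of_beq_eq_true h9,
    Nat.eq_of_beq_eq_true h10, Nat.eq_of_beq_eq_true h11⟩

theorem inv_f : (e2 pf)⁻¹ = e2 pfi := by
  apply inv_eq_of_mul_eq_one_right
  rw [mul_eq1 okHs.1 okHs.2.1 okHs.2.2.2.2.1, e2_idP]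

theorem sq_E {P : ℕ} (hP : P ∈ Main.LE) : e2 P * e2 P = 1 := by
  have hk := chkE
  rw [List.all_eq_true] at hk
  have h1 := hk P hP
  rw [Bool.and_eq_true] at h1
  rw [mul_eq1 (okl_E hP) (okl_E hP) (Nat.eq_of_beq_eq_true h1.1), e2_idP]

theorem ok_kp {P : ℕ} (hP : P ∈ Main.LE) : ok2 (kp P) = true :=
  ok2_pcomp (ok2_pcomp (ok2_pcomp (okl_E hP) okHs.1) (okl_E hP)) okHs.2.1

theorem e2_kp {P : ℕ} (hP : P ∈ Main.LE) : e2 (kp P) = e2 P * e2 pf * (e2 P)⁻¹ * (e2 pf)⁻¹ := by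
  have h1 : (e2 P)⁻¹ = e2 P := inv_eq_of_mul_eq_one_left (sq_E hP)
  rw [inv_f, h1]
  unfold kp
  rw [e2_pcomp (ok2_pcomp (ok2_pcomp (okl_E hP) okHs.1) (okl_E hP)) okHs.2.1,
    e2_pcomp (ok2_pcomp (okl_E hP) okHs.1) (okl_E hP), e2_pcomp (okl_E hP) okHs.1]

theorem inv_s : (e2 ps)⁻¹ = e2 ps := by
  have hk := chkT
  rw [Bool.and_eq_true] at hk
  apply inv_eq_of_mul_eq_one_left
  rw [mul_eq1 ok_s ok_s (Nat.eq_of_beq_eq_true hk.1), e2_idP]

theorem inv_t : (e2 pt')⁻¹ = e2 pt' := by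
  have hk := chkT
  rw [Bool.and_eq_true] at hk
  apply inv_eq_of_mul_eq_one_left
  rw [mul_eq1 ok_t ok_t (Nat.eq_of_beq_eq_true hk.2), e2_idP]

theorem ok_cs {P : ℕ} (hP : P ∈ Main.LE) : ok2 (cs P) = true := ok2_pcomp (ok2_pcomp ok_s (okl_E hP)) ok_s

theorem e2_cs {P : ℕ} (hP : P ∈ Main.LE) : e2 (cs P) = e2 ps * e2 P * (e2 ps)⁻¹ := by
  unfold cs
  rw [e2_pcomp (ok2_pcomp ok_s (okl_E hP)) ok_s, e2_pcomp ok_s (okl_E hP), inv_s]

theorem ok_cr {P : ℕ} (hP : P ∈ Main.LE) : ok2 (cr P) = true :=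
  ok2_pcomp (ok2_pcomp ok_r (okl_E hP)) (ok2_pcomp ok_t ok_s)

theorem e2_cr {P : ℕ} (hP : P ∈ Main.LE) : e2 (cr P) = e2 ps * e2 pt' * e2 P * (e2 ps * e2 pt')⁻¹ := by
  unfold cr
  rw [e2_pcomp (ok2_pcomp ok_r (okl_E hP)) (ok2_pcomp ok_t ok_s), e2_pcomp ok_r (okl_E hP), e2_pcomp ok_t ok_s,
    e2_pcomp ok_s ok_t, mul_inv_rev, inv_s, inv_t]

theorem conj_g : e2 ps * e2 pt' * e2 pf * (e2 ps * e2 pt')⁻¹ = e2 pg := by
  rw [mul_inv_eq_iff_eq_mul, ← e2_pcomp ok_s ok_t]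
  exact mul_eq ok_r okHs.1 okHs.2.2.1 ok_r okHs.2.2.2.2.2.2.2.2.1

/-- the configuration -/
theorem conf : Conf (lsub Main.LE okE) (lsub LD okD) (e2 pf) (e2 ps) (e2 pt') (e2 p1) (e2 p2) := by
  obtain ⟨okf, okfi, okg, okgi, hf, hg, m1, m2, hrf, hcom, h3⟩ := okHs
  have hH := chkH
  rw [Bool.and_eq_true, List.all_eq_true] at hH
  have hF : ∀ P ∈ Main.LE, (∃ Q ∈ Main.LE, pcomp pf P = pcomp Q pf) ∧ (∃ Q ∈ Main.LE, pcomp P pf = pcomp pf Q) ∧
      (∃ Q ∈ Main.LE, pcomp pg P = pcomp Q pg) ∧ (P = idP ∨ df (pcomp P pf) (pcomp pf P) = true) ∧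
      (∃ Q ∈ Main.LE, kp Q = P) := by
    intro P hP
    have h1 := hH.2 P hP
    simp only [Bool.and_eq_true, Bool.or_eq_true, List.any_eq_true] at h1
    obtain ⟨⟨⟨⟨⟨Q1, n1, h1⟩, ⟨Q2, n2, h2⟩⟩, ⟨Q3, n3, h3⟩⟩, h4⟩, ⟨Q5, n5, h5⟩⟩ := h1
    exact ⟨⟨Q1, n1, Nat.eq_of_beq_eq_true h1⟩, ⟨Q2, n2, Nat.eq_of_beq_eq_true h2⟩,
      ⟨Q3, n3, Nat.eq_of_beq_eq_true h3⟩, h4.imp Nat.eq_of_beq_eq_true id, ⟨Q5, n5, Nat.eq_of_beq_eq_true h5⟩⟩
  have hF2 : ∀ P ∈ Main.LE, (∃ Q ∈ Main.LE, pcomp ps P = pcomp Q ps) ∧ (∃ Q ∈ Main.LE, pcomp pt' P = pcomp Q pt') := by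
    intro P hP
    have hk := chkF
    rw [List.all_eq_true] at hk
    have h1 := hk P hP
    simp only [Bool.and_eq_true, List.any_eq_true] at h1
    obtain ⟨⟨Q4, m4, h4⟩, ⟨Q5, m5, h5⟩⟩ := h1
    exact ⟨⟨Q4, m4, Nat.eq_of_beq_eq_true h4⟩, ⟨Q5, m5, Nat.eq_of_beq_eq_true h5⟩⟩
  have hS := chkS
  simp only [Bool.and_eq_true] at hS
  obtain ⟨⟨⟨s6, -⟩, -⟩, -⟩ := hS
  have okrr : ok2 (pcomp (pcomp ps pt') (pcomp ps pt')) = true := ok2_pcomp ok_r ok_r
  refine ⟨?_, ?_, ?_, ?_, ?_, ?_, ?_, ?_, ?_, ?_, ?_, ⟨p1, m1, rfl⟩, ⟨p2, m2, rfl⟩, ?_, ?_, ?_, ?_, index_odd⟩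
  · rintro _ ⟨P, hP, rfl⟩
    obtain ⟨Q, hQ, h1⟩ := (hF P hP).1
    refine ⟨Q, hQ, ?_⟩
    rw [mul_eq okf (okl_E hP) (okl_E hQ) okf h1, mul_inv_cancel_right]
  · rintro _ ⟨P, hP, rfl⟩
    obtain ⟨Q, hQ, h1⟩ := (hF P hP).2.1
    refine ⟨Q, hQ, ?_⟩
    rw [mul_assoc, mul_eq (okl_E hP) okf okf (okl_E hQ) h1, inv_mul_cancel_left]
  · rintro _ ⟨P, hP, rfl⟩ h1
    rcases (hF P hP).2.2.2.1 with h2 | h2
    · rw [h2, e2_idP]
    · rw [← e2_pcomp (okl_E hP) okf, ← e2_pcomp okf (okl_E hP)] at h1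
      exact absurd h1 (ne_of_df (ok2_pcomp (okl_E hP) okf) (ok2_pcomp okf (okl_E hP)) h2)
  · rintro _ ⟨P, hP, rfl⟩
    obtain ⟨Q, hQ, h1⟩ := (hF P hP).2.2.2.2
    refine ⟨e2 Q, ⟨Q, hQ, rfl⟩, ?_⟩
    rw [← e2_kp hQ, h1]
  · rintro _ ⟨P, hP, rfl⟩
    have ms : e2 ps ∈ Subgroup.closure {e2 ps, e2 pt'} := Subgroup.subset_closure (Or.inl rfl)
    have mt : e2 pt' ∈ Subgroup.closure {e2 ps, e2 pt'} := Subgroup.subset_closure (Or.inr rfl)
    have mi : ∀ i : Fin 4, e2 (LD.getD i idP) ∈ Subgroup.closure {e2 ps, e2 pt'} ∧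
        e2 (LD.getD (4 + i) idP) ∈ Subgroup.closure {e2 ps, e2 pt'} := fun i => by
      rw [← (pow_st i).1, ← (pow_st i).2]
      exact ⟨pow_mem (mul_mem ms mt) _, mul_mem (pow_mem (mul_mem ms mt) _) ms⟩
    have hlen : LD.length = 8 := rfl
    obtain ⟨n, hn, hnP⟩ := List.getElem_of_mem hP
    have e : P = LD.getD n idP := by rw [List.getD_eq_getElem _ _ hn, hnP]
    rw [hlen] at hn
    rw [e]
    by_cases h4 : n < 4
    · exact (mi ⟨n, h4⟩).1
    · have := (mi ⟨n - 4, by omega⟩).2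
      rwa [show 4 + ((⟨n - 4, by omega⟩ : Fin 4) : ℕ) = n from by show 4 + (n - 4) = n; omega] at this
  · have : e2 (pcomp (pcomp (pcomp ps pt') (pcomp ps pt')) (pcomp (pcomp ps pt') (pcomp ps pt'))) = 1 := by
      rw [Nat.eq_of_beq_eq_true s6, e2_idP]
    rw [← this, e2_pcomp okrr okrr, e2_pcomp ok_r ok_r, e2_pcomp ok_s ok_t]
    simp only [pow_succ, pow_zero, one_mul, mul_assoc]
  · rintro _ ⟨P, hP, rfl⟩
    obtain ⟨Q, hQ, h1⟩ := (hF2 P hP).1
    refine ⟨Q, hQ, ?_⟩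
    rw [mul_eq ok_s (okl_E hP) (okl_E hQ) ok_s h1, mul_inv_cancel_right]
  · rintro _ ⟨P, hP, rfl⟩
    obtain ⟨Q, hQ, h1⟩ := (hF2 P hP).2
    refine ⟨Q, hQ, ?_⟩
    rw [mul_eq ok_t (okl_E hP) (okl_E hQ) ok_t h1, mul_inv_cancel_right]
  · have : e2 (pcomp pf (pcomp pf pf)) = 1 := by rw [h3, e2_idP]
    rw [e2_pcomp okf (ok2_pcomp okf okf), e2_pcomp okf okf] at this
    rw [← this]
    simp only [pow_succ, pow_zero, one_mul, mul_assoc]
  · rw [conj_g]
    exact mul_eq okf okg okg okf hcom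
  · rintro _ ⟨P, hP, rfl⟩
    rw [conj_g]
    obtain ⟨Q, hQ, h1⟩ := (hF P hP).2.2.1
    refine ⟨Q, hQ, ?_⟩
    rw [mul_eq okg (okl_E hP) (okl_E hQ) okg h1, mul_inv_cancel_right]
  · rw [← e2_kp m1, ← e2_kp m2, mul_inv_eq_iff_eq_mul]
    exact mul_eq ok_s (ok_kp m1) (ok_kp m2) ok_s (Nat.eq_of_beq_eq_true hH.1)
  · rintro _ ⟨P, hP, rfl⟩
    have hk := chkI
    rw [List.all_eq_true] at hk
    have h1 := hk P hP
    rw [List.any_eq_true] at h1
    obtain ⟨B, hB, h1⟩ := h1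
    rw [List.any_eq_true] at h1
    obtain ⟨C, hC, h1⟩ := h1
    refine ⟨e2 B, ⟨B, hB, rfl⟩, e2 C, ⟨C, hC, rfl⟩, ?_⟩
    have ok1 := ok2_pcomp (okl_E hB) (ok_cs hB)
    have ok2' := ok2_pcomp (okl_E hC) (ok_cr hC)
    rw [Bool.or_eq_true] at h1
    rcases h1 with h1 | h1
    · left
      rw [Nat.eq_of_beq_eq_true h1, e2_pcomp ok1 ok2', e2_pcomp (okl_E hB) (ok_cs hB),
        e2_pcomp (okl_E hC) (ok_cr hC), e2_cs hB, e2_cr hC]
    · right
      rw [Nat.eq_of_beq_eq_true h1, e2_pcomp (ok_kp m1) (ok2_pcomp ok1 ok2'), e2_kp m1, e2_pcomp ok1 ok2',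
        e2_pcomp (okl_E hB) (ok_cs hB), e2_pcomp (okl_E hC) (ok_cr hC), e2_cs hB, e2_cr hC]
  · rintro i hi ⟨Q, hQ, h1⟩
    have hk := chkDE'
    simp only [Bool.and_eq_true, Bool.or_eq_true, List.all_eq_true, List.mem_range] at hk
    rw [(pow_st i).1] at h1
    rcases (hk i i.2).1 with h2 | h2
    · exact hi (Fin.ext (Nat.eq_of_beq_eq_true h2))
    · exact ne_of_df (okD_get _) (okl_E hQ) (h2 Q hQ) h1
  · rintro i ⟨Q, hQ, h1⟩
    have hk := chkDE'
    simp only [Bool.and_eq_true, Bool.or_eq_true, List.all_eq_true, List.mem_range] at hk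
    rw [(pow_st i).2] at h1
    exact ne_of_df (okD_get _) (okl_E hQ) ((hk i i.2).2 Q hQ) h1

section

variable {L : Type*} [Group L] {π : L →* M22} {c : L}

theorem good_A (h : Ext π c) : Good π (e2 pa) := by
  have hk := chkJ
  simp only [Bool.and_eq_true] at hk
  obtain ⟨⟨⟨⟨⟨⟨h0, h1⟩, h2⟩, h3⟩, h4⟩, h5⟩, h6⟩ := hk
  refine h.good_of_seven (b := e2 py) (d := e2 pd) aa (conj_C h1) (conj_C h2) ?_ ?_ ?_ ?_
  · rw [← e2_pcomp ok_a ok_y]; exact conj_C h3
  · rw [← e2_pcomp ok_a h0]; exact conj_C h4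
  · rw [← e2_pcomp ok_y h0]; exact conj_C h5
  · rw [← e2_pcomp ok_y h0, ← e2_pcomp ok_a (ok2_pcomp ok_y h0)]; exact conj_C h6

theorem good_C (h : Ext π c) {P : ℕ} (hP : (LC.any fun Q => Nat.beq Q.1 P) = true) : Good π (e2 P) :=
  (good_A h).of_isConj h aa (conj_C hP)

theorem good_E (h : Ext π c) {P : ℕ} (hP : P ∈ Main.LE) : Good π (e2 P) := by
  have hk := chkE
  rw [List.all_eq_true] at hk
  have h1 := hk P hP
  simp only [Bool.and_eq_true, Bool.or_eq_true] at h1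
  rcases h1.2 with (h1 | h1) | h1
  · rw [Nat.eq_of_beq_eq_true h1, e2_idP]
    intro x hx
    rcases (h.ker x).1 hx with rfl | rfl
    · rw [one_mul]
    · exact h.sq
  · rw [Nat.eq_of_beq_eq_true h1]; exact good_A h
  · exact good_C h h1

/-- **A perfect central extension of `M22` whose kernel is a 2-group has a cyclic kernel.** -/
theorem cyclic_ker {K : Type u} [Group K] [Finite K] {π : K →* M22} (hs : Function.Surjective π)
    (hp : commutator K = ⊤) (hcen : ∀ z ∈ π.ker, ∀ x, z * x = x * z) (h2 : IsPGroup 2 π.ker) : IsCyclic π.ker := by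
  refine cyclic_of_fpf hs hp hcen h2 conf ?_
  intro L _ _ π' c h
  have hS := chkS
  simp only [Bool.and_eq_true] at hS
  obtain ⟨⟨⟨-, s7⟩, s8⟩, s9⟩ := hS
  refine ⟨?_, good_C h.toExt s7, good_C h.toExt s8, ?_⟩
  · rintro _ ⟨P, hP, rfl⟩
    exact good_E h.toExt hP
  · rw [← e2_pcomp ok_s ok_t, ← e2_pcomp ok_r ok_r]
    exact good_C h.toExt s9

/-- `center K` is cyclic -/
theorem cyclic_center {K : Type u} [Group K] [Finite K] (hp : commutator K = ⊤) (h2 : IsPGroup 2 ↥(center K))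
    (hX : Spor.IsoM22 (K ⧸ center K)) : IsCyclic ↥(center K) := by
  obtain ⟨e⟩ := hX
  have hker : (e.toMonoidHom.comp (QuotientGroup.mk' (center K))).ker = center K := by
    ext x
    rw [MonoidHom.mem_ker]
    show e (QuotientGroup.mk' (center K) x) = 1 ↔ _
    rw [map_eq_one_iff e e.injective, QuotientGroup.mk'_apply, QuotientGroup.eq_one_iff]
  have h1 := cyclic_ker (π := e.toMonoidHom.comp (QuotientGroup.mk' (center K)))
    (e.surjective.comp (QuotientGroup.mk'_surjective _)) hp (by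
      intro z hz x
      rw [hker] at hz
      exact (mem_center_iff.1 hz x).symm) (by rw [hker]; exact h2)
  rwa [hker] at h1

end

end Cfsg.Agent.KFacts.MulM22.Cyc

end
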